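import Groth.Agent.ResProp.EF.K624.Nodes
import Groth.Agent.ResProp.EF.K785.Nat

/-!
# Node J1 of G2b: calculus of `IsNat` (`A^nat`)

All statements are about `Grp.IsNat a : ∀ n, n! ∣ a ^ n`; no torsion hypothesis is needed except for divided powers.
-/

set_option autoImplicit false

universe u

open TensorProduct

noncomputable section

namespace Groth.Agent.ResProp.EF.Grp

/-! ### over any commutative ring -/

section General

variable {A B : Type u} [CommRing A] [CommRing B]

theorem isNat_iff_mem {a : A} : IsNat a ↔ a ∈ K785.natI A := Iff.rfl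

theorem IsNat.zero : IsNat (0 : A) := (K785.natI A).zero_mem

theorem IsNat.add {a b : A} (ha : IsNat a) (hb : IsNat b) : IsNat (a + b) := (K785.natI A).add_mem ha hb

theorem IsNat.neg {a : A} (ha : IsNat a) : IsNat (-a) := (K785.natI A).neg_mem ha

theorem IsNat.sub {a b : A} (ha : IsNat a) (hb : IsNat b) : IsNat (a - b) := (K785.natI A).sub_mem ha hb

theorem IsNat.mul_left (r : A) {b : A} (hb : IsNat b) : IsNat (r * b) := (K785.natI A).mul_mem_left r hb

theorem IsNat.mul_right {b : A} (hb : IsNat b) (r : A) : IsNat (b * r) := (K785.natI A).mul_mem_right r hb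

theorem IsNat.sum {ι : Type*} (s : Finset ι) (f : ι → A) (h : ∀ i ∈ s, IsNat (f i)) : IsNat (∑ i ∈ s, f i) :=
  (K785.natI A).sum_mem h

theorem IsNat.nsmul {a : A} (ha : IsNat a) (n : ℕ) : IsNat (n • a) := by
  rw [nsmul_eq_mul]; exact ha.mul_left _

theorem IsNat.zsmul {a : A} (ha : IsNat a) (n : ℤ) : IsNat (n • a) := by
  rw [zsmul_eq_mul]; exact ha.mul_left _

theorem IsNat.smul {k : Type*} [CommRing k] [Algebra k A] {a : A} (ha : IsNat a) (c : k) : IsNat (c • a) := by
  rw [Algebra.smul_def]; exact ha.mul_left _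

theorem IsNat.pow {a : A} (ha : IsNat a) {n : ℕ} (hn : n ≠ 0) : IsNat (a ^ n) :=
  (K785.natI A).pow_mem_of_mem ha n (Nat.pos_of_ne_zero hn)

theorem IsNat.map {a : A} (ha : IsNat a) (f : A →+* B) : IsNat (f a) := K785.map_mem_natI f ha

theorem IsNat.map_algHom {k : Type*} [CommRing k] [Algebra k A] [Algebra k B] {a : A} (ha : IsNat a)
    (f : A →ₐ[k] B) : IsNat (f a) := ha.map f.toRingHom

/-- `A^nat` as an ideal (the hypothesis is not used; `K785.natI A` is the same ideal). -/
def natI (A : Type u) [CommRing A] (_hA : K624.TF A) : Ideal A := K785.natI A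

theorem mem_natI {hA : K624.TF A} {a : A} : a ∈ natI A hA ↔ IsNat a := Iff.rfl

theorem tf_mul {hA : K624.TF A} {n : ℕ} (hn : n ≠ 0) {x : A} (h : (n : A) * x = 0) : x = 0 := by
  apply hA n hn
  simpa [nsmul_eq_mul] using h

/-- divided powers of elements of `A^nat` are in `A^nat`. -/
theorem IsNat.divPow (hA : K624.TF A) {a b : A} (ha : IsNat a) {n : ℕ} (hn : 1 ≤ n)
    (hb : (n.factorial : A) * b = a ^ n) : IsNat b :=
  K785.mem_natI_of_factorial_mul (fun _ hm _ hx => tf_mul (hA := hA) hm hx) ha (by omega) hb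

/-- uniqueness of divided powers -/
theorem divPow_unique (hA : K624.TF A) {n : ℕ} {b c a : A} (hb : (n.factorial : A) * b = a)
    (hc : (n.factorial : A) * c = a) : b = c := by
  have h : (n.factorial : A) * (b - c) = 0 := by rw [mul_sub, hb, hc, sub_self]
  exact sub_eq_zero.1 (tf_mul (hA := hA) (Nat.factorial_ne_zero n) h)

end General

/-! ### over `k = ℤ_(p)` -/

section OverLb

variable {p : ℕ} {k : Type u} [CommRing k]

/-- an integer prime to `p` is not divisible by `p` in `k` -/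
theorem IsLb.not_dvd_natCast [h : IsLb p k] {n : ℕ} (hn : ¬ p ∣ n) : ¬ (p : k) ∣ (n : k) := by
  rintro ⟨c, hc⟩
  apply h.not_unit
  have hcop : Nat.Coprime p n := (Nat.Prime.coprime_iff_not_dvd h.prime).2 hn
  have h1 : IsCoprime (p : ℤ) (n : ℤ) := Nat.isCoprime_iff_coprime.2 hcop
  obtain ⟨x, y, hxy⟩ := h1
  have h2 : ((x : ℤ) : k) * (p : k) + ((y : ℤ) : k) * (n : k) = 1 := by
    have := congrArg (fun z : ℤ => (z : k)) hxy
    simpa using this
  rw [isUnit_iff_exists_inv]
  refine ⟨(x : k) + (y : k) * c, ?_⟩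
  rw [← h2, hc]; ring

theorem IsLb.isUnit_natCast [h : IsLb p k] {n : ℕ} (hn : ¬ p ∣ n) : IsUnit (n : k) :=
  h.unit_of _ (IsLb.not_dvd_natCast (p := p) hn)

theorem IsLb.isUnit_natCast_alg [h : IsLb p k] (A : Type*) [CommRing A] [Algebra k A] {n : ℕ} (hn : ¬ p ∣ n) :
    IsUnit (n : A) := by
  have := (IsLb.isUnit_natCast (p := p) (k := k) hn).map (algebraMap k A)
  simpa using this

/-- `k` is torsion-free -/
theorem IsLb.natCast_ne_zero [h : IsLb p k] {n : ℕ} (hn : n ≠ 0) : (n : k) ≠ 0 := by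
  haveI := h.char0
  exact_mod_cast hn

theorem IsLb.prime_natCast [h : IsLb p k] : Prime (p : k) := by
  haveI := h.dom
  refine ⟨IsLb.natCast_ne_zero (p := p) h.prime.ne_zero, h.not_unit, ?_⟩
  intro a b hab
  by_contra hcon
  push Not at hcon
  exact h.not_unit (isUnit_of_dvd_unit hab ((h.unit_of a hcon.1).mul (h.unit_of b hcon.2)))

/-- free algebras over `k` are torsion-free -/
theorem tf_of_free_smul [h : IsLb p k] (M : Type*) [AddCommGroup M] [Module k M] [Module.Free k M] {n : ℕ}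
    (hn : n ≠ 0) {x : M} (hx : n • x = 0) : x = 0 := by
  haveI := h.dom
  haveI : Module.IsTorsionFree k M := inferInstance
  have h1 : (n : k) • x = 0 := by rw [Nat.cast_smul_eq_nsmul]; exact hx
  exact (smul_eq_zero.1 h1).resolve_left (IsLb.natCast_ne_zero (p := p) hn)

theorem tf_of_free [h : IsLb p k] (A : Type u) [CommRing A] [Algebra k A] [Module.Free k A] : K624.TF A := by
  intro n hn x y hxy
  have h1 : n • (x - y) = 0 := by
    rw [nsmul_eq_mul]
    have h2 : (n : A) * x = (n : A) * y := by simpa [nsmul_eq_mul] using hxy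
    rw [mul_sub, h2, sub_self]
  exact sub_eq_zero.1 (tf_of_free_smul (p := p) (k := k) A hn h1)

/-- `p a ∈ A^nat` -/
theorem IsNat.p_mul [h : IsLb p k] {A : Type u} [CommRing A] [Algebra k A] (a : A) : IsNat ((p : A) * a) := by
  haveI : Fact p.Prime := ⟨h.prime⟩
  exact IsNat.mul_right (K785.prime_mem_natI p fun n hn => IsLb.isUnit_natCast_alg (p := p) (k := k) A hn) a

theorem IsNat.p_cast [h : IsLb p k] (A : Type u) [CommRing A] [Algebra k A] : IsNat (p : A) := by
  have := IsNat.p_mul (p := p) (k := k) (1 : A)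
  rwa [mul_one] at this

theorem IsNat.p_smul [h : IsLb p k] {A : Type u} [CommRing A] [Algebra k A] (a : A) : IsNat ((p : k) • a) := by
  rw [Algebra.smul_def, map_natCast]; exact IsNat.p_mul (p := p) (k := k) a

theorem IsNat.of_dvd [h : IsLb p k] {A : Type u} [CommRing A] [Algebra k A] {a : A} (ha : (p : A) ∣ a) :
    IsNat a := by
  obtain ⟨b, rfl⟩ := ha
  exact IsNat.p_mul (p := p) (k := k) b

/-- `a ∈ A^nat` has `p ∣ a ^ p`. -/
theorem IsNat.dvd_pow (hp : p.Prime) {A : Type u} [CommRing A] {a : A} (ha : IsNat a) : (p : A) ∣ a ^ p := by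
  haveI : Fact p.Prime := ⟨hp⟩
  exact K785.dvd_pow_of_mem p ha

theorem IsNat.exists_pow_eq (hp : p.Prime) {A : Type u} [CommRing A] {a : A} (ha : IsNat a) :
    ∃ b : A, (p : A) * b = a ^ p := by
  obtain ⟨b, hb⟩ := ha.dvd_pow hp
  exact ⟨b, hb.symm⟩

/-- `p` is not a unit in a nonzero free algebra -/
theorem not_isUnit_of_free [h : IsLb p k] (A : Type*) [CommRing A] [Algebra k A] [Module.Free k A] [Nontrivial A] :
    ¬ IsUnit (p : A) := by
  intro hu
  obtain ⟨c, hc⟩ := isUnit_iff_exists_inv.1 hu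
  have b := Module.Free.chooseBasis k A
  -- some coordinate of `1` is not divisible by `p`; but `1 = p c`
  have hne : (1 : A) ≠ 0 := one_ne_zero
  have hdvd : ∀ x : A, ∃ y : A, (p : k) • y = x := fun x => ⟨c * x, by
    rw [Algebra.smul_def, map_natCast, ← mul_assoc, hc, one_mul]⟩
  obtain ⟨i⟩ : Nonempty (Module.Free.ChooseBasisIndex k A) := by
    by_contra hemp
    rw [not_nonempty_iff] at hemp
    haveI : Subsingleton A := b.repr.toEquiv.subsingleton
    exact hne (Subsingleton.elim _ _)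
  obtain ⟨y, hy⟩ := hdvd (b i)
  have h1 := congrArg (fun z => b.repr z i) hy
  simp only [map_smul, Finsupp.smul_apply, smul_eq_mul, Module.Basis.repr_self, Finsupp.single_eq_same] at h1
  exact h.not_unit (isUnit_iff_exists_inv.2 ⟨_, h1⟩)

theorem isNat_algebraMap_iff_of_not_isUnit [h : IsLb p k] (A : Type u) [CommRing A] [Algebra k A]
    (hA : ¬ IsUnit (p : A)) (c : k) : IsNat (algebraMap k A c) ↔ (p : k) ∣ c := by
  constructor
  · intro hc
    by_contra hcon
    have hu : IsUnit (algebraMap k A c) := (h.unit_of c hcon).map _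
    exact hA (isUnit_of_dvd_unit (hc.dvd_pow h.prime) (hu.pow p))
  · rintro ⟨d, rfl⟩
    rw [map_mul, map_natCast]
    exact IsNat.p_mul (p := p) (k := k) _

theorem isNat_algebraMap_iff [h : IsLb p k] (A : Type u) [CommRing A] [Algebra k A] [Module.Free k A]
    [Nontrivial A] (c : k) : IsNat (algebraMap k A c) ↔ (p : k) ∣ c :=
  isNat_algebraMap_iff_of_not_isUnit (p := p) A (not_isUnit_of_free (p := p) (k := k) A) c

theorem isNat_base_iff [h : IsLb p k] (c : k) : IsNat c ↔ (p : k) ∣ c :=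
  isNat_algebraMap_iff_of_not_isUnit (p := p) k h.not_unit c

/-- if `p ∣ a ^ p ⟹ p ∣ a` in `A`, then `A^nat = p A`. -/
theorem isNat_iff_dvd_of_red [h : IsLb p k] {A : Type u} [CommRing A] [Algebra k A]
    (hA : ∀ a : A, (p : A) ∣ a ^ p → (p : A) ∣ a) (a : A) : IsNat a ↔ (p : A) ∣ a :=
  ⟨fun ha => hA a (ha.dvd_pow h.prime), fun ha => IsNat.of_dvd (p := p) (k := k) ha⟩

end OverLb

end Groth.Agent.ResProp.EF.Grp
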